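import Groth.Agent.Sga5.H858.AbsFrob
import Groth.Prelude.Def_FinFr

/-!
# The Frobenius endomorphism `F₀ × id` of `X₀ ×_k K` and the geometric Frobenius

`k` a finite field with `q = p ^ d` elements, `K/k` algebraic, `a : X₀ ⟶ Spec k`.
-/

set_option autoImplicit false

universe u

open CategoryTheory CategoryTheory.Limits AlgebraicGeometry TopologicalSpace Opposite Abelian
open scoped Groth.Agent.Etcore.EtInst
open Groth.Agent.Etcore.EtInst Groth.Agent.Etcore.HpullCalc Groth.Agent.Etcore.HC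
  Groth.Agent.Etcore.PullCoh Groth.Agent.Sga5.H858.AbsFrob

namespace Groth.Agent.Sga5.H858.GeomFrob

attribute [local instance] Groth.Agent.S0101.result

theorem hd (k : Type u) [Field k] [Fintype k] (p d : ℕ) (hq : p ^ d = Fintype.card k) : d ≠ 0 := by
  rintro rfl
  have := Fintype.one_lt_card (α := k)
  rw [pow_zero] at hq
  omega

variable {k K : Type u} [Field k] [Fintype k] [Field K] [Algebra k K] [Algebra.IsAlgebraic k K]
  {X₀ : Scheme.{u}} (a : X₀ ⟶ Spec (CommRingCat.of k)) (p : ℕ) (hpr : p.Prime)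
  (h : ∀ U : X₀.Opens, ((p : ℕ) : Γ(X₀, U)) = 0) (d : ℕ) (hq : p ^ d = Fintype.card k)

include hq in
theorem cast_zero : ((p : ℕ) : k) = 0 := by
  have h1 : ((Fintype.card k : ℕ) : k) = 0 := FiniteField.cast_card_eq_zero k
  rw [← hq, Nat.cast_pow] at h1
  exact pow_eq_zero_iff (hd k p d hq) |>.1 h1

include hpr hq in
theorem frob_hom : frob X₀ p hpr h d ≫ a = a := by
  have h1 := frob_comp a p hpr h (char_zero_spec (CommRingCat.of k) (cast_zero p d hq)) d
  rw [h1]
  have h2 := frob_spec (CommRingCat.of k) p hpr (cast_zero p d hq) d (RingHom.id k)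
    (fun x => by rw [hq, RingHom.id_apply]; exact (FiniteField.pow_card x).symm)
  rw [h2]
  have h3 : Spec.map (CommRingCat.ofHom (RingHom.id k)) = 𝟙 (Spec (CommRingCat.of k)) :=
    Spec.map_id _
  rw [h3, Category.comp_id]

include hq in
/-- `(F₀ × id) ∘ (id × arithmetic Frobenius)` is the absolute Frobenius. -/
theorem extHom_galAct (F₀ : X₀ ⟶ X₀) (hF₀ : F₀ = frob X₀ p hpr h d) (w : F₀ ≫ a = a)
    (h' : ∀ U : (FinFr.ext K a).Opens, ((p : ℕ) : Γ(FinFr.ext K a, U)) = 0) :
    FinFr.extHom K a F₀ w ≫ FinFr.galAct a (FinFr.arith k K) =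
      frob (FinFr.ext K a) p hpr h' d := by
  have hK : ((p : ℕ) : K) = 0 := by
    rw [← map_natCast (algebraMap k K) p, cast_zero p d hq, map_zero]
  apply pullback.hom_ext
  · rw [Category.assoc]
    erw [FinFr.galAct_fst a (FinFr.arith k K), FinFr.extHom_fst]
    rw [hF₀]
    exact (frob_comp (FinFr.extπ K a) p hpr h' h d).symm
  · rw [Category.assoc]
    erw [FinFr.galAct_snd a (FinFr.arith k K)]
    have h1 : FinFr.extHom K a F₀ w ≫ FinFr.extStr K a = FinFr.extStr K a :=
      (pullback.lift_snd _ _ _).trans (Category.comp_id _)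
    rw [reassoc_of% h1]
    have h2 := frob_spec (CommRingCat.of K) p hpr hK d ((FinFr.arith k K : K ≃ₐ[k] K) : K →+* K)
      (fun x => by rw [hq]; rfl)
    rw [← h2]
    exact (frob_comp (FinFr.extStr K a) p hpr h' (char_zero_spec (CommRingCat.of K) hK) d).symm

theorem galAct_comp {k K : Type u} [Field k] [Field K] [Algebra k K] {X₀ : Scheme.{u}}
    (a : X₀ ⟶ Spec (CommRingCat.of k)) (σ τ : K ≃ₐ[k] K) :
    FinFr.galAct a σ ≫ FinFr.galAct a τ = FinFr.galAct a (σ * τ) := by
  apply pullback.hom_ext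
  · rw [Category.assoc]
    erw [FinFr.galAct_fst a τ, FinFr.galAct_fst a σ, FinFr.galAct_fst a (σ * τ)]
  · rw [Category.assoc]
    erw [FinFr.galAct_snd a τ]
    rw [← Category.assoc]
    erw [FinFr.galAct_snd a σ, FinFr.galAct_snd a (σ * τ)]
    rw [Category.assoc, ← Spec.map_comp]
    rfl

theorem galAct_one {k K : Type u} [Field k] [Field K] [Algebra k K] {X₀ : Scheme.{u}}
    (a : X₀ ⟶ Spec (CommRingCat.of k)) :
    FinFr.galAct a (1 : K ≃ₐ[k] K) = 𝟙 _ := by
  apply pullback.hom_ext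
  · erw [FinFr.galAct_fst a, Category.id_comp]
  · erw [FinFr.galAct_snd a, Category.id_comp]
    have h3 : Spec.map (CommRingCat.ofHom ((1 : K ≃ₐ[k] K) : K →+* K)) =
      𝟙 (Spec (CommRingCat.of K)) := Spec.map_id _
    rw [h3]
    exact Category.comp_id _

include hq in
/-- Pullback along `F₀ × id` on cohomology with constant coefficients is transport of structure by
the inverse of the arithmetic Frobenius. -/
theorem HC_extHom (F₀ : X₀ ⟶ X₀) (hF₀ : F₀ = frob X₀ p hpr h d) (w : F₀ ≫ a = a)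
    (M : Type) [AddCommGroup M] (n : ℕ) (x : HH (FinFr.ext K a) (EtCoh.const _ M) n) :
    HC M (FinFr.extHom K a F₀ w) n x =
      HC M (FinFr.galAct a (FinFr.arith k K).symm) n x := by
  have h' : ∀ U : (FinFr.ext K a).Opens, ((p : ℕ) : Γ(FinFr.ext K a, U)) = 0 :=
    char_zero_of_hom (FinFr.extπ K a) h
  have e1 : FinFr.galAct a (FinFr.arith k K).symm ≫ FinFr.galAct a (FinFr.arith k K) = 𝟙 _ := by
    rw [galAct_comp, ← galAct_one a]
    exact congrArg (FinFr.galAct a) (AlgEquiv.ext fun x =>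
      AlgEquiv.symm_apply_apply (FinFr.arith k K) x)
  have e2 : FinFr.galAct a (FinFr.arith k K) ≫ FinFr.galAct a (FinFr.arith k K).symm = 𝟙 _ := by
    rw [galAct_comp, ← galAct_one a]
    exact congrArg (FinFr.galAct a) (AlgEquiv.ext fun x =>
      AlgEquiv.apply_symm_apply (FinFr.arith k K) x)
  obtain ⟨y, rfl⟩ : ∃ y, HC M (FinFr.galAct a (FinFr.arith k K)) n y = x :=
    ⟨HC M (FinFr.galAct a (FinFr.arith k K).symm) n x, by
      rw [HC_HC M _ _ _ e2, HC_id]⟩
  rw [HC_HC M _ _ _ e1, HC_id,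
    HC_HC M _ _ _ (extHom_galAct a p hpr h d hq F₀ hF₀ w h'), HC_frob]

/-- The two identifications: transport of structure by `σ` for the constant sheaf. -/
theorem pullConst_hpVia {k K : Type u} [Field k] [Field K] [Algebra k K] {X₀ : Scheme.{u}}
    (a : X₀ ⟶ Spec (CommRingCat.of k)) (σ : K ≃ₐ[k] K) (M : Type) [AddCommGroup M] (n : ℕ)
    (x : HH (FinFr.ext K a) ((EtCoh.pull (FinFr.extπ K a)).obj (EtCoh.const X₀ M)) n) :
    HHmap (EtCore.pullConst (FinFr.extπ K a) M).hom n
      (hpVia (FinFr.galAct a σ) (FinFr.extπ K a) (FinFr.extπ K a) (FinFr.galAct_fst a σ)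
        (EtCoh.const X₀ M) n x) =
      HC M (FinFr.galAct a σ) n (HHmap (EtCore.pullConst (FinFr.extπ K a) M).hom n x) := by
  rw [hpVia_apply_th, HC_apply, hp_map, ← HHmap_comp, ← HHmap_comp,
    pullConst_comp (FinFr.galAct a σ) (FinFr.extπ K a) (FinFr.extπ K a) (FinFr.galAct_fst a σ) M]

include hq in
theorem main (F₀ : X₀ ⟶ X₀) (hF₀ : F₀ = frob X₀ p hpr h d) (w : F₀ ≫ a = a)
    (M : Type) [AddCommGroup M] (n : ℕ)
    (x : HH (FinFr.ext K a) ((EtCoh.pull (FinFr.extπ K a)).obj (EtCoh.const X₀ M)) n) :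
    hpVia (FinFr.galAct a (FinFr.arith k K).symm) (FinFr.extπ K a) (FinFr.extπ K a)
        (FinFr.galAct_fst a _) (EtCoh.const X₀ M) n x =
      HHmap (EtCore.pullConst (FinFr.extπ K a) M).inv n
        (HHmap (EtCore.pullConst (FinFr.extHom K a F₀ w) M).hom n
          (hp (FinFr.extHom K a F₀ w) _ n
            (HHmap (EtCore.pullConst (FinFr.extπ K a) M).hom n x))) := by
  rw [← HC_apply, HC_extHom a p hpr h d hq F₀ hF₀ w, ← pullConst_hpVia, ← HHmap_comp,
    Iso.hom_inv_id, HHmap_id]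

end Groth.Agent.Sga5.H858.GeomFrob
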