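import Groth.Agent.Sga5.H858.Frob
import Groth.Agent.Etcore.HC
import Mathlib.Algebra.CharP.Lemmas

/-!
# The absolute Frobenius powers of a scheme of characteristic `p`, and their (trivial) action on
etale cohomology
-/

set_option autoImplicit false

universe u

open CategoryTheory CategoryTheory.Limits AlgebraicGeometry TopologicalSpace Opposite Abelian
open scoped Groth.Agent.Etcore.EtInst
open Groth.Agent.Etcore.EtInst Groth.Agent.Etcore.HpullCalc Groth.Agent.Etcore.HC
  Groth.Agent.Etcore.PullCoh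

namespace Groth.Agent.Sga5.H858.AbsFrob

/-- The `p ^ n`-power map of a ring in which `p = 0`. -/
def powHom (R : Type u) [CommRing R] (p : ℕ) (hpr : p.Prime) (h : (p : R) = 0) (n : ℕ) : R →+* R where
  toFun a := a ^ p ^ n
  map_one' := one_pow _
  map_zero' := zero_pow (pow_ne_zero _ hpr.ne_zero)
  map_mul' a b := mul_pow _ _ _
  map_add' a b := by
    rw [add_pow_prime_pow_eq hpr a b n, h, zero_mul, zero_mul, zero_mul, add_zero]

@[simp] lemma powHom_apply (R : Type u) [CommRing R] (p : ℕ) (hpr : p.Prime) (h : (p : R) = 0) (n : ℕ)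
    (a : R) : powHom R p hpr h n a = a ^ p ^ n := rfl

section Def

variable (X : Scheme.{u}) (p : ℕ) (hpr : p.Prime) (h : ∀ U : X.Opens, ((p : ℕ) : Γ(X, U)) = 0) (n : ℕ)

/-- The `n`-th power of the absolute Frobenius, as a morphism of presheafed spaces. -/
def frobPre : X.toPresheafedSpace.Hom X.toPresheafedSpace where
  base := 𝟙 _
  c :=
    { app := fun U => CommRingCat.ofHom (powHom (X.presheaf.obj U) p hpr (h U.unop) n)
      naturality := by
        intro U V i
        ext a
        change (X.presheaf.map i a) ^ p ^ n = X.presheaf.map i (a ^ p ^ n)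
        rw [map_pow] }

lemma frobPre_stalkMap (x : X) (a : X.presheaf.stalk x) :
    ((frobPre X p hpr h n).stalkMap x).hom a = (a : X.presheaf.stalk x) ^ p ^ n := by
  obtain ⟨U, hx, s, rfl⟩ := X.presheaf.exists_germ_eq (x := x) a
  have h1 := PresheafedSpace.stalkMap_germ_apply (frobPre X p hpr h n) U x hx s
  refine h1.trans ?_
  change X.presheaf.germ U x hx (s ^ p ^ n) = _
  rw [map_pow]

/-- The `n`-th power of the absolute Frobenius. -/
def frob : X ⟶ X where
  toHom := frobPre X p hpr h n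
  prop x := by
    constructor
    intro a ha
    have h1 := frobPre_stalkMap X p hpr h n x a
    rw [h1] at ha
    exact (isUnit_pow_iff (pow_ne_zero n hpr.ne_zero)).mp ha

lemma frob_app_apply (U : X.Opens) (a : Γ(X, U)) :
    ((frob X p hpr h n).app U).hom a = (a ^ p ^ n : Γ(X, U)) := rfl

lemma frob_base (x : X) : (frob X p hpr h n).base x = x := rfl

lemma frob_preimage (U : X.Opens) : (frob X p hpr h n) ⁻¹ᵁ U = U := rfl

lemma frob_app (U : X.Opens) (a : Γ(X, U)) :
    (frob X p hpr h n).app U a =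
      X.presheaf.map (eqToHom (frob_preimage X p hpr h n U)).op (a ^ p ^ n) := by
  have h1 : X.presheaf.map (eqToHom (frob_preimage X p hpr h n U)).op = 𝟙 _ :=
    X.presheaf.map_id _
  rw [h1]
  rfl

end Def

lemma char_zero_of_hom {X Y : Scheme.{u}} (f : X ⟶ Y) {p : ℕ}
    (h : ∀ U : Y.Opens, ((p : ℕ) : Γ(Y, U)) = 0) (U : X.Opens) : ((p : ℕ) : Γ(X, U)) = 0 := by
  let ρ : Γ(Y, ⊤) →+* Γ(X, U) :=
    (X.presheaf.map (homOfLE (le_top : U ≤ ⊤)).op).hom.comp f.appTop.hom
  rw [← map_natCast ρ p, h, map_zero]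

lemma char_zero_spec (A : CommRingCat.{u}) {p : ℕ} (h : ((p : ℕ) : A) = 0) (U : (Spec A).Opens) :
    ((p : ℕ) : Γ(Spec A, U)) = 0 := by
  let ρ : A →+* Γ(Spec A, U) :=
    ((Spec A).presheaf.map (homOfLE (le_top : U ≤ ⊤)).op).hom.comp (Scheme.ΓSpecIso A).inv.hom
  rw [← map_natCast ρ p, h, map_zero]

/-- Absolute Frobenius morphisms commute with all morphisms. -/
theorem frob_comp {X Y : Scheme.{u}} (f : X ⟶ Y) (p : ℕ) (hpr : p.Prime)
    (h : ∀ U : X.Opens, ((p : ℕ) : Γ(X, U)) = 0) (h' : ∀ U : Y.Opens, ((p : ℕ) : Γ(Y, U)) = 0)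
    (n : ℕ) : frob X p hpr h n ≫ f = f ≫ frob Y p hpr h' n :=
  Frob.frob_natural (p := p ^ n) f _ _ (frob_base X p hpr h n) (frob_base Y p hpr h' n)
    (frob_preimage X p hpr h n) (frob_preimage Y p hpr h' n) (frob_app X p hpr h n)
    (frob_app Y p hpr h' n)

/-- The absolute Frobenius of an affine scheme. -/
theorem frob_spec (A : CommRingCat.{u}) (p : ℕ) (hpr : p.Prime) (h : ((p : ℕ) : A) = 0) (n : ℕ)
    (φ : A →+* A) (hφ : ∀ a, φ a = a ^ p ^ n) :
    frob (Spec A) p hpr (char_zero_spec A h) n = Spec.map (CommRingCat.ofHom φ) := by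
  refine ext_of_isAffine ?_
  refine CommRingCat.hom_ext (RingHom.ext fun s => ?_)
  obtain ⟨a, rfl⟩ : ∃ a, (Scheme.ΓSpecIso A).inv.hom a = s :=
    ⟨(Scheme.ΓSpecIso A).hom.hom s, by simp⟩
  have h1 : (frob (Spec A) p hpr (char_zero_spec A h) n).appTop.hom
      ((Scheme.ΓSpecIso A).inv.hom a) = ((Scheme.ΓSpecIso A).inv.hom a) ^ p ^ n := rfl
  have h2 := congrArg (fun t => CommRingCat.Hom.hom t a)
    (Scheme.ΓSpecIso_inv_naturality (CommRingCat.ofHom φ))
  refine h1.trans (Eq.trans ?_ h2)
  change _ = (Scheme.ΓSpecIso A).inv.hom (φ a)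
  rw [hφ, map_pow]

section

variable (X : Scheme.{u}) (p : ℕ) (hpr : p.Prime) (h : ∀ U : X.Opens, ((p : ℕ) : Γ(X, U)) = 0) (n : ℕ)

/-- The absolute Frobenius of an etale `X`-scheme. -/
noncomputable def frobU (U : X.Etale) : U.left ⟶ U.left :=
  frob U.left p hpr (char_zero_of_hom U.hom h) n

lemma frobU_hom (U : X.Etale) : frobU X p hpr h n U ≫ U.hom = U.hom ≫ frob X p hpr h n :=
  frob_comp U.hom p hpr _ h n

lemma frobU_naturality {U V : X.Etale} (g : U ⟶ V) :
    frobU X p hpr h n U ≫ g.left = g.left ≫ frobU X p hpr h n V :=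
  frob_comp g.left p hpr _ _ n

/-- The relative Frobenius morphisms as a natural transformation `U ⟶ U ×_{X, fr} X`. -/
noncomputable def cFrob : 𝟭 X.Etale ⟶ EtCoh.bc (frob X p hpr h n) where
  app U := MorphismProperty.Over.homMk
    (pullback.lift (frobU X p hpr h n U) U.hom (frobU_hom X p hpr h n U)) (pullback.lift_snd _ _ _)
  naturality U V g := by
    apply (Scheme.Etale.forget X).map_injective
    apply Over.OverMorphism.ext
    exact Frob.lift_natural (frob X p hpr h n) U.hom V.hom g.left (MorphismProperty.Over.w g)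
      (frobU X p hpr h n U) (frobU X p hpr h n V) (frobU_hom X p hpr h n U) (frobU_hom X p hpr h n V)
      (frobU_naturality X p hpr h n g) ((EtCoh.bc (frob X p hpr h n)).map g).left
      (EtCoh.isPullback_bc_map (frob X p hpr h n) g).w
      (by dsimp [EtCoh.bc]; exact pullback.lift_snd _ _ _)

/-- The natural transformation `G ⟶ fr⁻¹ G` (the inverse of the Frobenius correspondence). -/
noncomputable def delFrob : 𝟭 (EtCoh.Ab X) ⟶ EtCoh.pull (frob X p hpr h n) :=
  Frob.del (frob X p hpr h n) (cFrob X p hpr h n)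

/-- Pulling back a cohomology class along the absolute Frobenius. -/
theorem hp_frob (G : EtCoh.Ab X) (i : ℕ) (e : HH X G i) :
    hp (frob X p hpr h n) G i e = HHmap ((delFrob X p hpr h n).app G) i e :=
  Frob.hp_eq (frob X p hpr h n) (cFrob X p hpr h n) G i e

theorem delFrob_const (M : Type) [AddCommGroup M] :
    (delFrob X p hpr h n).app (EtCoh.const X M) = (EtCore.pullConst (frob X p hpr h n) M).inv :=
  Frob.del_const (frob X p hpr h n) (cFrob X p hpr h n) _

/-- **The absolute Frobenius acts trivially on etale cohomology** (constant coefficients). -/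
theorem HC_frob (M : Type) [AddCommGroup M] (i : ℕ) (x : HH X (EtCoh.const X M) i) :
    HC M (frob X p hpr h n) i x = x := by
  rw [HC_apply, hp_frob, ← HHmap_comp, delFrob_const, Iso.inv_hom_id, HHmap_id]

end

end Groth.Agent.Sga5.H858.AbsFrob
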